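import Groth.Agent.PullStalk.Exact
import Groth.Agent.PullStalk.Basic
import Groth.Agent.AssSch.Restrict
import Groth.Agent.QCohGen.StalkFun
import Groth.Agent.Props.QProj
import Groth.Agent.QCoh.Exact
import Groth.Agent.FlatMor.FreeFibre
import Groth.Agent.FDesc.QuasiFlat
import Groth.Prelude.Def_FlatMod2
import Groth.Prelude.Def_StabCat
import Mathlib.RingTheory.Flat.FaithfullyFlat.Algebra

/-!
# Freeness of stalks: filtrations, open restriction, and descent from a fibre
-/

set_option autoImplicit false
set_option linter.style.haveILetI false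

universe u

open CategoryTheory CategoryTheory.Limits AlgebraicGeometry TopologicalSpace Opposite
open scoped TensorProduct

namespace Groth.Agent.FreeAlong

open Groth.Agent.PullStalk.Exact Groth.Agent.PullStalk.Sky Groth.Agent.PullStalk.Basic
open Groth.Agent.QCohGen

variable {X : Scheme.{u}}

theorem stalkLin_comp_eq_id {M N : X.Modules} {i : M ⟶ N} {p : N ⟶ M} (h : i ≫ p = 𝟙 M) (x : X) :
    stalkLin p x ∘ₗ stalkLin i x = LinearMap.id :=
  linearMap_ext_germ fun U hx m => by
    rw [LinearMap.comp_apply, stalkLin_germ, stalkLin_germ, LinearMap.id_apply]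
    exact congrArg (fun φ => germM M U x hx (Scheme.Modules.Hom.app φ U m)) h

theorem projective_middle {R A B C : Type u} [CommRing R] [AddCommGroup A] [Module R A]
    [AddCommGroup B] [Module R B] [AddCommGroup C] [Module R C] (f : A →ₗ[R] B) (g : B →ₗ[R] C)
    (hf : Function.Injective f) (he : Function.Exact f g) (hg : Function.Surjective g)
    [Module.Projective R A] [Module.Projective R C] : Module.Projective R B := by
  obtain ⟨s, hs⟩ := Module.projective_lifting_property g LinearMap.id hg
  exact Module.Projective.of_equiv ((he.splitSurjectiveEquiv hf ⟨s, hs⟩).1).symm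

theorem projective_stalk_of_retract {M N : X.Modules} (i : M ⟶ N) (p : N ⟶ M) (h : i ≫ p = 𝟙 M)
    (x : X) [hN : Module.Projective (X.presheaf.stalk x) (N.presheaf.stalk x)] :
    Module.Projective (X.presheaf.stalk x) (M.presheaf.stalk x) := by
  refine Module.Projective.of_split (stalkLin i x) (stalkLin p x) ?_
  exact stalkLin_comp_eq_id h x

/-- Along a filtration from `⊥` to `⊤` with projective stalks of the factors, the stalk is projective. -/
theorem projective_stalk_of_filtration {E : X.Modules} (s : LTSeries (Subobject E))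
    (h0 : s.head = ⊥) (h1 : s.last = ⊤) (x : X)
    (hf : ∀ i, Module.Projective (X.presheaf.stalk x)
      ((StabCat.factor s i).presheaf.stalk x)) :
    Module.Projective (X.presheaf.stalk x) (E.presheaf.stalk x) := by
  have key : ∀ (k : ℕ) (hk : k < s.length + 1), Module.Projective (X.presheaf.stalk x)
      ((Subobject.underlying.obj (s ⟨k, hk⟩)).presheaf.stalk x) := by
    intro k
    induction k with
    | zero =>
      intro hk
      have hz : IsZero (Subobject.underlying.obj (s ⟨0, hk⟩)) := by
        rw [show s ⟨0, hk⟩ = ⊥ from h0]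
        exact (isZero_zero _).of_iso Subobject.botCoeIsoZero
      set P := Subobject.underlying.obj (s ⟨0, hk⟩)
      have hid : stalkLin (𝟙 P) x = 0 := by
        rw [hz.eq_of_src (𝟙 P) 0]
        refine linearMap_ext_germ fun U hx m => ?_
        rw [stalkLin_germ]
        exact map_zero _
      have : Subsingleton (P.presheaf.stalk x) := subsingleton_of_forall_eq 0 fun t => by
        have h2 : stalkLin (𝟙 P) x = LinearMap.id :=
          linearMap_ext_germ fun U hx m => stalkLin_germ (𝟙 P) U x hx m
        exact (LinearMap.congr_fun (h2.symm.trans hid) t)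
      exact Module.Projective.of_free
    | succ k ih =>
      intro hk
      let i : Fin s.length := ⟨k, by omega⟩
      let f := Subobject.ofLE (s i.castSucc) (s i.succ) (le_of_lt (s.step i))
      have hS : (ShortComplex.mk f (cokernel.π f) (cokernel.condition f)).ShortExact :=
        { exact := ShortComplex.exact_of_g_is_cokernel _ (cokernelIsCokernel f) }
      obtain ⟨hi, he, hs⟩ := stalk_exact hS x
      haveI : Module.Projective (X.presheaf.stalk x)
        ((Subobject.underlying.obj (s i.castSucc)).presheaf.stalk x) := ih (by omega)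
      haveI : Module.Projective (X.presheaf.stalk x) ((cokernel f).presheaf.stalk x) := hf i
      exact @projective_middle _ _ _ _ _ _ _ _ _ _ _ _ _ hi he hs (ih (by omega)) (hf i)
  haveI := key s.length (Nat.lt_succ_self _)
  haveI : Module.Projective (X.presheaf.stalk x)
      ((Subobject.underlying.obj (⊤ : Subobject E)).presheaf.stalk x) := by
    rw [← h1]; exact key s.length (Nat.lt_succ_self _)
  exact projective_stalk_of_retract (inv (Subobject.arrow (⊤ : Subobject E)))
    (Subobject.arrow (⊤ : Subobject E)) (IsIso.inv_hom_id _) x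

theorem projective_factor_of_grObj {E : X.Modules} (s : LTSeries (Subobject E)) (x : X)
    [Module.Projective (X.presheaf.stalk x) ((StabCat.grObj s).presheaf.stalk x)]
    (i : Fin s.length) :
    Module.Projective (X.presheaf.stalk x) ((StabCat.factor s i).presheaf.stalk x) := by
  classical
  exact @projective_stalk_of_retract _ _ (StabCat.grObj s) (Sigma.ι (StabCat.factor s) i)
    (Sigma.desc fun j => if h : j = i then eqToHom (by rw [h]) else 0)
    ((Sigma.ι_desc _ _).trans (by simp)) x ‹_›

/-- A module free near a point has free finite stalk there. -/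
theorem free_stalk_of_restrict (M : X.Modules) [M.IsQuasicoherent] {V : X.Opens}
    (h : FlatMod.IsFinLocFree (M.restrict V.ι)) {x : X} (hx : x ∈ V) :
    Module.Free (X.presheaf.stalk x) (M.presheaf.stalk x) := by
  haveI : (M.restrict V.ι).IsQuasicoherent := Scheme.Modules.isQuasicoherent_restrictFunctor _ M
  obtain ⟨y, rfl⟩ : ∃ y : (V : Scheme.{u}), V.ι y = x := ⟨⟨x, hx⟩, rfl⟩
  have hf := (Props.QProj.free_stalk (M.restrict V.ι) h y).1
  let e := (Scheme.Modules.restrictFunctorIsoPullback V.ι).app M
  have hcomp1 := stalkLin_comp_eq_id e.hom_inv_id y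
  have hcomp2 := stalkLin_comp_eq_id e.inv_hom_id y
  let el : (M.restrict V.ι).presheaf.stalk y ≃ₗ[(V : Scheme.{u}).presheaf.stalk y]
      ((Scheme.Modules.pullback V.ι).obj M).presheaf.stalk y :=
    LinearEquiv.ofLinear (stalkLin e.hom y) (stalkLin e.inv y) hcomp2 hcomp1
  haveI := Module.Free.of_equiv el
  let σ := (asIso (V.ι.stalkMap y)).commRingCatIsoToRingEquiv
  haveI : RingHomInvPair (σ : X.presheaf.stalk (V.ι y) →+* (V : Scheme.{u}).presheaf.stalk y) σ.symm :=
    RingHomInvPair.of_ringEquiv σ
  haveI : RingHomInvPair (σ.symm : (V : Scheme.{u}).presheaf.stalk y →+* X.presheaf.stalk (V.ι y)) σ :=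
    RingHomInvPair.of_ringEquiv σ.symm
  let g₀ : M.presheaf.stalk (V.ι y) →ₛₗ[(σ : X.presheaf.stalk (V.ι y) →+* (V : Scheme.{u}).presheaf.stalk y)]
      ((Scheme.Modules.pullback V.ι).obj M).presheaf.stalk y :=
    { toFun := AssSch.Restrict.stalkEquivHom V.ι M y
      map_add' := map_add _
      map_smul' := fun r m => (AssSch.Restrict.stalkEquivHom V.ι M y).map_smulₛₗ r m }
  let e' := LinearEquiv.ofBijective g₀ (AssSch.Restrict.bijective_unitStalkHom V.ι M y)
  exact (Module.Free.iff_of_equiv e').mpr inferInstance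

/-- Freeness at a point descends from a free pullback to a fibre, for a module flat over the base. -/
theorem free_stalk_of_isPullback {X S X' S' : Scheme.{u}} {f : X ⟶ S} {g : S' ⟶ S} {f' : X' ⟶ S'}
    {g' : X' ⟶ X} (hc : IsPullback g' f' f g) (F : X.Modules) (x' : X')
    (hfl : FlatMod.IsFlatOverAt f F (g' x'))
    [Module.FinitePresentation (X.presheaf.stalk (g' x')) (F.presheaf.stalk (g' x'))]
    (hfree : Module.Free (X'.presheaf.stalk x')
      (((Scheme.Modules.pullback g').obj F).presheaf.stalk x')) :
    Module.Free (X.presheaf.stalk (g' x')) (F.presheaf.stalk (g' x')) := by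
  suffices key : ∀ (s' : S') (y' : f'.fiber s'),
      FlatMod.IsFlatOverAt f F (g' (f'.fiberι s' y')) →
      Module.FinitePresentation (X.presheaf.stalk (g' (f'.fiberι s' y')))
        (F.presheaf.stalk (g' (f'.fiberι s' y'))) →
      Module.Free (X'.presheaf.stalk (f'.fiberι s' y'))
        (((Scheme.Modules.pullback g').obj F).presheaf.stalk (f'.fiberι s' y')) →
      Module.Free (X.presheaf.stalk (g' (f'.fiberι s' y')))
        (F.presheaf.stalk (g' (f'.fiberι s' y'))) by
    obtain ⟨y', hy'⟩ : x' ∈ Set.range (f'.fiberι (f' x')) := by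
      rw [Scheme.Hom.range_fiberι]; rfl
    generalize f' x' = s' at y' hy'
    subst hy'
    exact key s' y' hfl inferInstance hfree
  clear hfl hfree
  intro s' y' hfl hfp hfree
  obtain ⟨E, _, φ₀, σ, hs, hker, hσfl, hσloc, heq⟩ :=
    FlatMor.FreeFibre.exists_fibre_stalk_map hc _ y'
  let x := g' (f'.fiberι s' y')
  let J := (IsLocalRing.maximalIdeal (S.presheaf.stalk (f x))).map (f.stalkMap x).hom
  let B := X.presheaf.stalk x
  let B' := X'.presheaf.stalk (f'.fiberι _ y')
  let K := (f'.fiber _).presheaf.stalk y'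
  let q : B ⧸ J ≃+* E := (Ideal.quotEquivOfEq hker.symm).trans
    (RingHom.quotientKerEquivOfSurjective hs)
  letI : Algebra B B' := (g'.stalkMap _).hom.toAlgebra
  letI : Algebra B' K := ((f'.fiberι _).stalkMap y').hom.toAlgebra
  letI : Algebra B K := (((f'.fiberι _).stalkMap y').hom.comp (g'.stalkMap _).hom).toAlgebra
  letI : Algebra (B ⧸ J) K := (σ.comp q.toRingHom).toAlgebra
  haveI : IsScalarTower B B' K := IsScalarTower.of_algebraMap_eq fun _ => rfl
  haveI : IsScalarTower B (B ⧸ J) K := IsScalarTower.of_algebraMap_eq fun b => by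
    show _ = σ (q (Ideal.Quotient.mk J b))
    refine ((RingHom.congr_fun heq b).symm.trans ?_)
    show σ (φ₀ b) = σ (q (Ideal.Quotient.mk J b))
    refine congrArg σ ?_
    show _ = (RingHom.quotientKerEquivOfSurjective hs) (Ideal.quotEquivOfEq hker.symm (Ideal.Quotient.mk J b))
    rw [Ideal.quotEquivOfEq_mk, RingHom.quotientKerEquivOfSurjective_apply_mk]
  let M := F.presheaf.stalk x
  letI := moduleOver g' F (f'.fiberι _ y')
  haveI : IsScalarTower B B' (((Scheme.Modules.pullback g').obj F).presheaf.stalk (f'.fiberι _ y')) :=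
    IsScalarTower.of_algebraMap_smul fun _ _ => rfl
  have hbc := isBaseChange_unitStalk g' F (f'.fiberι _ y')
  haveI : Module.Free B' (B' ⊗[B] M) := Module.Free.of_equiv hbc.equiv.symm
  haveI : Module.Free K (K ⊗[B] M) :=
    Module.Free.of_equiv (TensorProduct.AlgebraTensorModule.cancelBaseChange B B' K K M)
  haveI : Module.Flat K (K ⊗[B ⧸ J] ((B ⧸ J) ⊗[B] M)) := Module.Flat.of_linearEquiv
    (TensorProduct.AlgebraTensorModule.cancelBaseChange B (B ⧸ J) K K M)
  haveI : IsLocalHom (algebraMap (B ⧸ J) K) := by
    haveI := hσloc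
    haveI : IsLocalHom q.toRingHom := ⟨fun a ha => (MulEquiv.isUnit_map (f := q) (x := a)).mp ha⟩
    exact RingHom.isLocalHom_comp σ q.toRingHom
  haveI : Module.Flat (B ⧸ J) K :=
    RingHom.flat_algebraMap_iff.mp (RingHom.Flat.comp (RingHom.Flat.of_bijective q.bijective) hσfl)
  have hJ : J ≠ ⊤ := ne_top_of_le_ne_top (IsLocalRing.maximalIdeal.isMaximal B).ne_top
    (IsLocalRing.map_maximalIdeal_le (f.stalkMap x).hom)
  haveI : Nontrivial (B ⧸ J) := Ideal.Quotient.nontrivial_iff.2 hJ
  haveI : IsLocalRing (B ⧸ J) := .of_surjective' (Ideal.Quotient.mk J) Ideal.Quotient.mk_surjective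
  haveI : Module.FaithfullyFlat (B ⧸ J) K := Module.FaithfullyFlat.of_flat_of_isLocalHom
  haveI : Module.Flat (B ⧸ J) ((B ⧸ J) ⊗[B] M) := Module.Flat.of_flat_tensorProduct _ _ K
  letI := (f.stalkMap x).hom.toAlgebra
  letI := FlatMod.moduleStalkOver f F x
  haveI : IsScalarTower (S.presheaf.stalk (f x)) B M :=
    IsScalarTower.of_algebraMap_smul fun _ _ => rfl
  haveI : Module.Flat (S.presheaf.stalk (f x)) M := hfl
  haveI : IsLocalHom (algebraMap (S.presheaf.stalk (f x)) B) :=
    inferInstanceAs (IsLocalHom (f.stalkMap x).hom)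
  exact FlatMor.FreeFibre.free_of_free_fibre (S.presheaf.stalk (f x)) B M
    Module.free_of_flat_of_isLocalRing

end Groth.Agent.FreeAlong
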